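import Groth.Agent.Lib.DerCat.HocolimQ
import Groth.Agent.Lib.DerCat.KInjExists
import Groth.Agent.Lib.DerCat.KInjSmall
import Groth.Agent.Lib.DerCat.ModGen
import Groth.Agent.Lib.DR.Basic
import Mathlib.CategoryTheory.Retract
import Mathlib.Algebra.Category.Grp.Colimits
import Mathlib.Algebra.Category.ModuleCat.AB
import Mathlib.Algebra.Category.ModuleCat.Projective
import Mathlib.RingTheory.Finiteness.Basic

/-! # Objects whose maps into sums are finitely supported -/

universe w v u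

open CategoryTheory CategoryTheory.Limits CategoryTheory.Pretriangulated Opposite

attribute [local instance] HasDerivedCategory.standard

namespace Groth.Agent.H83.Beil

section Gen

variable {D : Type u} [Category.{v} D] [Preadditive D] {J : Type w}

open scoped Classical in
noncomputable def pr {E : J → D} {c : Cofan E} (hc : IsColimit c) (j : J) : c.pt ⟶ E j :=
  Cofan.IsColimit.desc hc fun i => if h : i = j then eqToHom (by rw [h]) else 0

noncomputable def cut {E : J → D} {c : Cofan E} (hc : IsColimit c) (s : Finset J) : c.pt ⟶ c.pt :=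
  ∑ j ∈ s, pr hc j ≫ c.inj j

lemma inj_pr {E : J → D} {c : Cofan E} (hc : IsColimit c) (j : J) :
    c.inj j ≫ pr hc j = 𝟙 _ := by
  simp [pr]

lemma inj_pr_ne {E : J → D} {c : Cofan E} (hc : IsColimit c) {i j : J} (h : i ≠ j) :
    c.inj i ≫ pr hc j = 0 := by
  simp [pr, h]

lemma inj_cut {E : J → D} {c : Cofan E} (hc : IsColimit c) (s : Finset J) (i : J) [Decidable (i ∈ s)] :
    c.inj i ≫ cut hc s = if i ∈ s then c.inj i else 0 := by
  classical
  rw [cut, Preadditive.comp_sum]
  split_ifs with h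
  · rw [Finset.sum_eq_single i (fun j _ hj => by rw [← Category.assoc, inj_pr_ne hc (Ne.symm hj), zero_comp])
      (fun h' => absurd h h'), ← Category.assoc, inj_pr, Category.id_comp]
  · refine Finset.sum_eq_zero fun j hj => ?_
    have hij : i ≠ j := fun e => h (by rw [e]; exact hj)
    rw [← Category.assoc, inj_pr_ne hc hij, zero_comp]

lemma cut_mono {E : J → D} {c : Cofan E} (hc : IsColimit c) {s t : Finset J} (h : s ⊆ t) {K : D}
    {f : K ⟶ c.pt} (hf : f ≫ cut hc s = f) : f ≫ cut hc t = f := by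
  classical
  have : cut hc s ≫ cut hc t = cut hc s := by
    conv_lhs => rw [cut, Preadditive.sum_comp]
    refine Finset.sum_congr rfl fun j hj => ?_
    rw [Category.assoc, inj_cut, if_pos (h hj)]
  rw [← hf, Category.assoc, this]

/-- Every map into a sum indexed by a type in `Type w` is finitely supported. -/
def Cpt (K : D) : Prop :=
  ∀ (J : Type w) (E : J → D) (c : Cofan E) (hc : IsColimit c) (f : K ⟶ c.pt),
    ∃ s : Finset J, f ≫ cut hc s = f

lemma Cpt.retract {K L : D} (r : Retract L K) (h : Cpt.{w} K) : Cpt.{w} L := by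
  intro J E c hc f
  obtain ⟨s, hs⟩ := h J E c hc (r.r ≫ f)
  refine ⟨s, ?_⟩
  have := congrArg (r.i ≫ ·) hs
  simpa using this

lemma Cpt.of_iso {K L : D} (e : K ≅ L) (h : Cpt.{w} K) : Cpt.{w} L :=
  h.retract ⟨e.inv, e.hom, e.inv_hom_id⟩

lemma Cpt.of_isZero {K : D} (h : IsZero K) : Cpt.{w} K :=
  fun _ _ _ _ f => ⟨∅, h.eq_of_src _ _⟩

lemma Cpt.of_map {D' : Type u} [Category.{v} D'] [Preadditive D'] (G : D ⥤ D') [G.Additive] [G.Faithful]
    [∀ J : Type w, PreservesColimitsOfShape (Discrete J) G] {K : D} (h : Cpt.{w} (G.obj K)) :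
    Cpt.{w} K := by
  classical
  intro J E c hc f
  let c' : Cofan fun j => G.obj (E j) := Cofan.mk (G.obj c.pt) fun j => G.map (c.inj j)
  have hc' : IsColimit c' :=
    isColimitMapCoconeCofanMkEquiv G _ _ (isColimitOfPreserves G
      ((IsColimit.equivIsoColimit (Cofan.ext (Iso.refl _) (by simp)) :
        IsColimit c ≃ IsColimit (Cofan.mk c.pt fun j => c.inj j)) hc))
  obtain ⟨s, hs⟩ := h J _ c' hc' (G.map f)
  refine ⟨s, G.map_injective ?_⟩
  have : G.map (cut hc s) = cut hc' s := Cofan.IsColimit.hom_ext hc' _ _ fun j => by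
    rw [inj_cut]
    change G.map (c.inj j) ≫ G.map _ = _
    rw [← G.map_comp, inj_cut]
    split_ifs
    · rfl
    · exact G.map_zero _ _
  rw [G.map_comp, this]
  exact hs

theorem cpt_of_preserves (K : D)
    (h : ∀ J : Type w, PreservesColimitsOfShape (Discrete J) (preadditiveCoyoneda.obj (op K))) :
    Cpt.{w} K := by
  classical
  intro J E c hc f
  have := h J
  let G := preadditiveCoyoneda.obj (op K)
  have hG := isColimitOfPreserves G hc
  let P : AddSubgroup (K ⟶ c.pt) :=
    { carrier := {g | ∃ s, g ≫ cut hc s = g}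
      zero_mem' := ⟨∅, zero_comp⟩
      add_mem' := fun {a b} ⟨s, hs⟩ ⟨t, ht⟩ => ⟨s ∪ t, by
        rw [Preadditive.add_comp, cut_mono hc Finset.subset_union_left hs,
          cut_mono hc Finset.subset_union_right ht]⟩
      neg_mem' := fun {a} ⟨s, hs⟩ => ⟨s, by rw [Preadditive.neg_comp, hs]⟩ }
  let q : G.obj c.pt ⟶ AddCommGrpCat.of ((K ⟶ c.pt) ⧸ P) :=
    AddCommGrpCat.ofHom (QuotientAddGroup.mk' P)
  have hq : q = 0 := hG.hom_ext fun j => by
    obtain ⟨j⟩ := j
    ext (g : K ⟶ E j)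
    exact (QuotientAddGroup.eq_zero_iff _).2 ⟨{j}, by
      change (g ≫ c.inj j) ≫ cut hc {j} = g ≫ c.inj j
      rw [Category.assoc, inj_cut, if_pos (Finset.mem_singleton_self j)]⟩
  exact (QuotientAddGroup.eq_zero_iff f).1
    (congrArg (fun φ : G.obj c.pt ⟶ AddCommGrpCat.of ((K ⟶ c.pt) ⧸ P) => φ.hom f) hq)

end Gen

section Coyoneda

variable {D : Type u} [Category.{v} D] [Preadditive D]

theorem preserves_of_cpt (K : D) (h : Cpt.{w} K) (J : Type w) :
    PreservesColimitsOfShape (Discrete J) (preadditiveCoyoneda.obj (op K)) := by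
  classical
  suffices key : ∀ E : J → D, PreservesColimit (Discrete.functor E) (preadditiveCoyoneda.obj (op K)) from
    ⟨fun {F} => have := key fun a => F.obj ⟨a⟩
      preservesColimit_of_iso_diagram _ Discrete.natIsoFunctor.symm⟩
  intro E
  refine ⟨fun {c} hc => ⟨?_⟩⟩
  let G := preadditiveCoyoneda.obj (op K)
  have hfin : ∀ f : K ⟶ c.pt, {j : J | f ≫ pr hc j ≠ 0}.Finite := fun f => by
    obtain ⟨s, hs⟩ := h J E c hc f
    refine s.finite_toSet.subset fun j hj => ?_
    by_contra hjs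
    refine hj ?_
    rw [← hs, Category.assoc, cut, Preadditive.sum_comp, Finset.sum_eq_zero, comp_zero]
    intro i hi
    have hij : i ≠ j := fun e => hjs (by rw [← e]; exact Finset.mem_coe.2 hi)
    rw [Category.assoc, inj_pr_ne hc hij, comp_zero]
  refine
    { desc := fun s => AddCommGrpCat.ofHom (AddMonoidHom.mk' (fun f : K ⟶ c.pt =>
        ∑ᶠ j, (s.ι.app ⟨j⟩).hom (f ≫ pr hc j : K ⟶ E j)) ?_)
      fac := ?_
      uniq := ?_ }
  · intro a b
    rw [← finsum_add_distrib ((hfin a).subset ?_) ((hfin b).subset ?_)]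
    · exact finsum_congr fun j => (congrArg (fun x => (s.ι.app ⟨j⟩).hom x) (Preadditive.add_comp _ _ _ (a : K ⟶ c.pt) b (pr hc j))).trans (map_add _ _ _)
    · intro j hj e
      exact hj ((congrArg (fun x => (s.ι.app ⟨j⟩).hom x) e).trans (map_zero _))
    · intro j hj e
      exact hj ((congrArg (fun x => (s.ι.app ⟨j⟩).hom x) e).trans (map_zero _))
  · intro s ⟨j⟩
    ext (g : K ⟶ E j)
    change (∑ᶠ i, (s.ι.app ⟨i⟩).hom ((g ≫ Cofan.inj c j) ≫ pr hc i : K ⟶ E i)) = (s.ι.app ⟨j⟩).hom g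
    rw [finsum_eq_single _ j fun i hi => by
      rw [Category.assoc, inj_pr_ne hc (Ne.symm hi), comp_zero]; exact map_zero _,
      Category.assoc, inj_pr, Category.comp_id]
  · intro s m hm
    ext (f : K ⟶ c.pt)
    change m.hom f = ∑ᶠ j, (s.ι.app ⟨j⟩).hom (f ≫ pr hc j : K ⟶ E j)
    obtain ⟨t, ht⟩ := h J E c hc f
    rw [finsum_eq_sum_of_support_subset _ (s := t) ?_]
    · conv_lhs => rw [← ht, cut, Preadditive.comp_sum]
      refine (map_sum m.hom _ t).trans (Finset.sum_congr rfl fun j _ => ?_)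
      rw [← Category.assoc]
      exact congrArg (fun φ : G.obj (E j) ⟶ s.pt => φ.hom (f ≫ pr hc j)) (hm ⟨j⟩)
    · intro j hj
      by_contra hjt
      refine hj ?_
      have : f ≫ pr hc j = 0 := by
        rw [← ht, Category.assoc, cut, Preadditive.sum_comp, Finset.sum_eq_zero, comp_zero]
        intro i hi
        have hij : i ≠ j := fun e => hjt (by rw [← e]; exact Finset.mem_coe.2 hi)
        rw [Category.assoc, inj_pr_ne hc hij, comp_zero]
      exact (congrArg (fun x => (s.ι.app ⟨j⟩).hom x) this).trans (map_zero _)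

end Coyoneda

section Tri

variable {D : Type u} [Category.{v} D] [Preadditive D] [HasShift D ℤ] [HasZeroObject D]
  [∀ n : ℤ, (shiftFunctor D n).Additive] [Pretriangulated D]

lemma Cpt.shift {K : D} (h : Cpt.{w} K) (n : ℤ) : Cpt.{w} (K⟦n⟧) := by
  have : ∀ J : Type w, PreservesColimitsOfShape (Discrete J) (shiftFunctor D (-n)) := fun J =>
    inferInstance
  exact Cpt.of_map (shiftFunctor D (-n))
    (h.of_iso ((shiftFunctorCompIsoId D n (-n) (add_neg_cancel n)).symm.app K))

lemma Cpt.ext₂ (T : Triangle D) (hT : T ∈ distTriang D)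
    (h₁ : Cpt.{w} T.obj₁) (h₃ : Cpt.{w} T.obj₃) : Cpt.{w} T.obj₂ := by
  classical
  intro J E c hc f
  obtain ⟨s, hs⟩ := h₁ J E c hc (T.mor₁ ≫ f)
  obtain ⟨g, hg⟩ := Triangle.yoneda_exact₂ T hT (f - f ≫ cut hc s) (by
    rw [Preadditive.comp_sub, ← Category.assoc, hs, sub_self])
  obtain ⟨t, ht⟩ := h₃ J E c hc g
  refine ⟨s ∪ t, ?_⟩
  have e1 : (f - f ≫ cut hc s) ≫ cut hc (s ∪ t) = f - f ≫ cut hc s := by
    rw [hg, Category.assoc, cut_mono hc Finset.subset_union_right ht]
  have e2 : (f ≫ cut hc s) ≫ cut hc (s ∪ t) = f ≫ cut hc s := by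
    refine cut_mono hc Finset.subset_union_left (s := s) ?_
    rw [Category.assoc]
    congr 1
    refine Cofan.IsColimit.hom_ext hc _ _ fun j => ?_
    rw [← Category.assoc, inj_cut]
    split_ifs with hj
    · rw [inj_cut, if_pos hj]
    · rw [zero_comp]
  rw [Preadditive.sub_comp, e2] at e1
  exact sub_left_inj.1 e1

lemma Cpt.ext₃ (T : Triangle D) (hT : T ∈ distTriang D)
    (h₁ : Cpt.{w} T.obj₁) (h₂ : Cpt.{w} T.obj₂) : Cpt.{w} T.obj₃ :=
  Cpt.ext₂ T.rotate (rot_of_distTriang _ hT) h₂ (h₁.shift 1)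

end Tri

section Mod

variable {R : Type u} [Ring R]

theorem isLeftAdjoint_Qh : (DerivedCategory.Qh (C := ModuleCat.{u} R)).IsLeftAdjoint :=
  Groth.Agent.Lib.DerivedOX.RightDerived.isLeftAdjoint_Qh (A := ModuleCat.{u} R)
    Groth.Agent.Lib.DerCat.KInjExists.hasKInjRes

/-- Finitely generated projective modules in degree zero. -/
theorem cpt_single (P : ModuleCat.{u} R) [Projective P] [Module.Finite R P] :
    Cpt.{u} ((DerivedCategory.singleFunctor (ModuleCat.{u} R) 0).obj P) := by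
  classical
  refine Cpt.of_iso ((DerivedCategory.singleFunctorIsoCompQ (ModuleCat.{u} R) 0).app P).symm ?_
  intro J E c hc f
  have := isLeftAdjoint_Qh (R := R)
  have := Groth.Agent.Lib.DerCat.HocolimQ.preservesColimitsOfShape_Q (A := ModuleCat.{u} R) J
  let B : J → CochainComplex (ModuleCat.{u} R) ℤ := fun j => DerivedCategory.Q.objPreimage (E j)
  let e : ∀ j, DerivedCategory.Q.obj (B j) ≅ E j := fun j => DerivedCategory.Q.objObjPreimageIso _
  let hB := coproductIsCoproduct B
  let hQ := isColimitCofanMkObjOfIsColimit DerivedCategory.Q B _ hB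
  let a : c.pt ⟶ DerivedCategory.Q.obj (∐ B) :=
    Cofan.IsColimit.desc hc fun j => (e j).inv ≫ DerivedCategory.Q.map (Sigma.ι B j)
  let b : DerivedCategory.Q.obj (∐ B) ⟶ c.pt :=
    Cofan.IsColimit.desc hQ fun j => (e j).hom ≫ c.inj j
  have hb : ∀ j, DerivedCategory.Q.map (Sigma.ι B j) ≫ b = (e j).hom ≫ c.inj j :=
    fun j => Cofan.IsColimit.fac hQ _ j
  have hab : a ≫ b = 𝟙 _ := Cofan.IsColimit.hom_ext hc _ _ fun j => by
    rw [Category.comp_id, ← Category.assoc, Cofan.IsColimit.fac, Category.assoc, hb, Iso.inv_hom_id_assoc]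
  let S := (CochainComplex.singleFunctor (ModuleCat.{u} R) 0).obj P
  have hpX : ∀ n : ℤ, Projective (S.X n) := fun n => by
    by_cases hn : n = 0
    · subst hn
      exact Projective.of_iso (HomologicalComplex.singleObjXSelf (ComplexShape.up ℤ) 0 P).symm (by infer_instance)
    · have hz : IsZero (S.X n) := HomologicalComplex.isZero_single_obj_X (ComplexShape.up ℤ) 0 P n hn
      exact ⟨fun g e _ => ⟨0, hz.eq_of_src _ _⟩⟩
  have : S.IsKProjective := @CochainComplex.isKProjective_of_projective _ _ _ S 0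
    (inferInstanceAs (CochainComplex.IsStrictlyLE ((CochainComplex.singleFunctor (ModuleCat.{u} R) 0).obj P) 0)) hpX
  obtain ⟨φ, hφ⟩ := Groth.Agent.Lib.DR.Basic.exists_Q_map_eq (E := S) (K := ∐ B) (f ≫ a)
  let cX : Cofan fun j => (B j).X 0 := Cofan.mk ((∐ B).X 0) fun j => (Sigma.ι B j).f 0
  have hcX : IsColimit cX := isColimitCofanMkObjOfIsColimit
    (HomologicalComplex.eval (ModuleCat.{u} R) (ComplexShape.up ℤ) 0) B (Sigma.ι B) hB
  obtain ⟨t, ht⟩ := (Module.Finite.fg_top (R := R) (M := P))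
  let i₀ : P ⟶ S.X 0 := (HomologicalComplex.singleObjXSelf (ComplexShape.up ℤ) 0 P).inv
  choose s hs using fun x : P => Groth.Agent.Lib.DerCat.ModGen.exists_finite_support R hcX ((i₀ ≫ φ.f 0).hom x)
  refine ⟨t.biUnion s, ?_⟩
  let q : ∐ B ⟶ ∐ B := cut hB (t.biUnion s)
  have hcut : φ ≫ q = φ := by
    refine HomologicalComplex.from_single_hom_ext ?_
    rw [HomologicalComplex.comp_f]
    refine (cancel_epi i₀).1 ?_
    refine ModuleCat.hom_ext (LinearMap.ext_on ht fun x hx => ?_)
    refine hs x (q.f 0) fun j hj => ?_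
    change (Sigma.ι B j).f 0 ≫ q.f 0 = (Sigma.ι B j).f 0
    rw [← HomologicalComplex.comp_f]
    congr 1
    exact (inj_cut hB _ j).trans (if_pos (Finset.mem_biUnion.2 ⟨x, hx, hj⟩))
  have hq : cut hc (t.biUnion s) = a ≫ DerivedCategory.Q.map q ≫ b := by
    refine Cofan.IsColimit.hom_ext hc _ _ fun j => ?_
    rw [inj_cut, ← Category.assoc (c.inj j), Cofan.IsColimit.fac, Category.assoc, ← Category.assoc (DerivedCategory.Q.map _),
      ← Functor.map_comp]
    change _ = (e j).inv ≫ DerivedCategory.Q.map ((Cofan.mk _ (Sigma.ι B)).inj j ≫ cut hB _) ≫ b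
    rw [inj_cut]
    split_ifs
    · exact ((Iso.inv_comp_eq (e j)).2 (hb j)).symm
    · simp
  calc f ≫ cut hc (t.biUnion s) = (f ≫ a) ≫ DerivedCategory.Q.map q ≫ b := by
        rw [hq, Category.assoc]
    _ = DerivedCategory.Q.map (φ ≫ q) ≫ b := by rw [← hφ, Functor.map_comp, Category.assoc]
    _ = f := by rw [hcut, hφ, Category.assoc, hab, Category.comp_id]

end Mod

end Groth.Agent.H83.Beil
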