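import Groth.Agent.H83.Beil.Cpt
import Mathlib.Algebra.Homology.DerivedCategory.SingleTriangle
import Mathlib.Algebra.Homology.DerivedCategory.FullyFaithful
import Mathlib.Algebra.Homology.DerivedCategory.TStructure
import Mathlib.Algebra.Algebra.RestrictScalars
import Mathlib.LinearAlgebra.Dimension.Free
import Mathlib.LinearAlgebra.Basis.VectorSpace
import Mathlib.LinearAlgebra.FiniteDimensional.Defs

/-! # Compact objects over a finite-dimensional algebra -/

universe u

open CategoryTheory CategoryTheory.Limits CategoryTheory.Pretriangulated Opposite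

attribute [local instance] HasDerivedCategory.standard

namespace Groth.Agent.H83.Beil

variable {R : Type u} [Ring R]

noncomputable abbrev S0 : ModuleCat.{u} R ⥤ DerivedCategory (ModuleCat.{u} R) :=
  DerivedCategory.singleFunctor (ModuleCat.{u} R) 0

lemma cpt_mid {S : ShortComplex (ModuleCat.{u} R)} (hS : S.ShortExact)
    (h1 : Cpt.{u} (S0.obj S.X₁)) (h3 : Cpt.{u} (S0.obj S.X₃)) : Cpt.{u} (S0.obj S.X₂) :=
  Cpt.ext₂ _ hS.singleTriangle_distinguished h1 h3

lemma cpt_quot {S : ShortComplex (ModuleCat.{u} R)} (hS : S.ShortExact)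
    (h1 : Cpt.{u} (S0.obj S.X₁)) (h2 : Cpt.{u} (S0.obj S.X₂)) : Cpt.{u} (S0.obj S.X₃) :=
  Cpt.ext₃ _ hS.singleTriangle_distinguished h1 h2

/-- An object concentrated in a single degree. -/
lemma cpt_of_conc (C : CochainComplex (ModuleCat.{u} R) ℤ) (a : ℤ)
    (hlt : ∀ i, i < a → IsZero (C.homology i)) (hgt : ∀ i, a < i → IsZero (C.homology i))
    (hM : Cpt.{u} (S0.obj (C.homology a))) : Cpt.{u} (DerivedCategory.Q.obj C) := by
  have : C.IsGE a := (C.isGE_iff a).2 fun i hi => (C.exactAt_iff_isZero_homology i).2 (hlt i hi)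
  have : C.IsLE a := (C.isLE_iff a).2 fun i hi => (C.exactAt_iff_isZero_homology i).2 (hgt i hi)
  obtain ⟨M, ⟨e⟩⟩ := DerivedCategory.exists_iso_singleFunctor_obj_of_isGE_of_isLE (DerivedCategory.Q.obj C) a
  let eM : C.homology a ≅ M := ((DerivedCategory.homologyFunctorFactors _ a).app C).symm ≪≫
    (DerivedCategory.homologyFunctor _ a).mapIso e ≪≫
      (DerivedCategory.singleFunctorCompHomologyFunctorIso _ a).app M
  refine (Cpt.of_iso ?_ ((hM.of_iso (S0.mapIso eM)).shift (-a))).of_iso e.symm
  exact (((DerivedCategory.singleFunctors (ModuleCat.{u} R)).shiftIso (-a) a 0 (by omega)).app M)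

theorem cpt_of_bounded (n : ℕ) : ∀ (C : CochainComplex (ModuleCat.{u} R) ℤ) (a : ℤ),
    (∀ i, i < a → IsZero (C.homology i)) → (∀ i, a + n < i → IsZero (C.homology i)) →
    (∀ i, Cpt.{u} (S0.obj (C.homology i))) → Cpt.{u} (DerivedCategory.Q.obj C) := by
  induction n with
  | zero => exact fun C a hlt hgt hM => cpt_of_conc C a hlt (fun i hi => hgt i (by simpa using hi)) (hM a)
  | succ n ih =>
    intro C a hlt hgt hM
    have hS := C.shortComplexTruncLE_shortExact a
    have h1 : Cpt.{u} (DerivedCategory.Q.obj (C.truncLE a)) := by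
      refine cpt_of_conc _ a (fun i hi => ?_) (fun i hi => ?_) ?_
      · have := C.quasiIsoAt_ιTruncLE a i hi.le
        exact (hlt i hi).of_iso (asIso (HomologicalComplex.homologyMap (C.ιTruncLE a) i))
      · exact ((C.truncLE a).exactAt_iff_isZero_homology i).1
          ((C.truncLE a).exactAt_of_isLE a i hi)
      · have := C.quasiIsoAt_ιTruncLE a a le_rfl
        exact (hM a).of_iso (S0.mapIso (asIso (HomologicalComplex.homologyMap (C.ιTruncLE a) a)).symm)
    have h3 : Cpt.{u} (DerivedCategory.Q.obj (C.truncGE (a + 1))) := by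
      refine ih _ (a + 1) (fun i hi => ?_) (fun i hi => ?_) (fun i => ?_)
      · exact ((C.truncGE (a + 1)).exactAt_iff_isZero_homology i).1
          ((C.truncGE (a + 1)).exactAt_of_isGE (a + 1) i hi)
      · have := C.quasiIsoAt_πTruncGE (a + 1) i (by omega)
        exact (hgt i (by push_cast at *; omega)).of_iso (asIso (HomologicalComplex.homologyMap (C.πTruncGE (a + 1)) i)).symm
      · by_cases hi : a + 1 ≤ i
        · have := C.quasiIsoAt_πTruncGE (a + 1) i hi
          exact (hM i).of_iso (S0.mapIso (asIso (HomologicalComplex.homologyMap (C.πTruncGE (a + 1)) i)))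
        · exact Cpt.of_isZero (S0.map_isZero (((C.truncGE (a + 1)).exactAt_iff_isZero_homology i).1
            ((C.truncGE (a + 1)).exactAt_of_isGE (a + 1) i (not_le.1 hi))))
    exact Cpt.ext₂ _ (DerivedCategory.triangleOfSES_distinguished hS) h1
      (h3.of_iso (asIso (DerivedCategory.Q.map (C.shortComplexTruncLEX₃ToTruncGE a (a + 1) rfl))).symm)

section Alg

variable (k : Type u) [Field k] [Algebra k R] [Module.Finite k R]

/-- A compact object has finite-dimensional bounded cohomology. -/
theorem findim_of_cpt (C : CochainComplex (ModuleCat.{u} R) ℤ) (h : Cpt.{u} (DerivedCategory.Q.obj C)) :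
    (∀ i : ℤ, Module.Finite k (RestrictScalars k R (C.homology i))) ∧
      Set.Finite {i : ℤ | Nontrivial (C.homology i)} := by
  classical
  letI mk : ∀ M : ModuleCat.{u} R, Module k M := fun M => Module.compHom M (algebraMap k R)
  have tow : ∀ M : ModuleCat.{u} R, IsScalarTower k R M := fun M =>
    ⟨fun a r m => by rw [Algebra.smul_def, mul_smul]; rfl⟩
  -- the dual of `R`
  let act : Module R (R →ₗ[k] k) :=
    { smul := fun r φ => φ.comp ((LinearMap.mul k R).flip r)
      one_smul := fun φ => LinearMap.ext fun x => congrArg φ (mul_one x)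
      mul_smul := fun r s φ => LinearMap.ext fun x => congrArg φ (mul_assoc x r s).symm
      smul_zero := fun r => LinearMap.ext fun x => rfl
      smul_add := fun r φ ψ => LinearMap.ext fun x => rfl
      add_smul := fun r s φ => LinearMap.ext fun x =>
        (congrArg φ (mul_add x r s)).trans (map_add φ _ _)
      zero_smul := fun φ => LinearMap.ext fun x => (congrArg φ (mul_zero x)).trans (map_zero φ) }
  let N : ModuleCat.{u} R := @ModuleCat.of R _ (R →ₗ[k] k) _ act
  let toN : ∀ {M : ModuleCat.{u} R}, (M →ₗ[k] k) → (M ⟶ N) := fun {M} g => ModuleCat.ofHom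
    (Y := R →ₗ[k] k)
    { toFun := fun m => g.comp ((LinearMap.toSpanSingleton R M m).restrictScalars k)
      map_add' := fun x y => LinearMap.ext fun r => by
        change g (r • (x + y)) = g (r • x) + g (r • y)
        rw [smul_add, map_add]
      map_smul' := fun r x => LinearMap.ext fun s => by
        change g (s • r • x) = g ((s * r) • x)
        rw [mul_smul] }
  have toN_apply : ∀ {M : ModuleCat.{u} R} (g : M →ₗ[k] k) (m : M) (r : R),
      ((toN g).hom m : R →ₗ[k] k) r = g (r • m) := fun _ _ _ => rfl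
  let bR := Module.Free.chooseBasis k R
  let bH : ∀ i, Module.Basis _ k (C.homology i) := fun i => Module.Free.chooseBasis k (C.homology i)
  let I : Type u := Σ i : ℤ, Module.Free.ChooseBasisIndex k (C.homology i)
  let T : I → CochainComplex (ModuleCat.{u} R) ℤ := fun x =>
    (HomologicalComplex.single (ModuleCat.{u} R) (ComplexShape.up ℤ) x.1).obj N
  -- a k-linear extension of the class map
  have hext : ∀ i, ∃ L : C.X i →ₗ[k] C.homology i,
      ∀ z, L ((C.iCycles i).hom z) = (C.homologyπ i).hom z := by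
    intro i
    have hinj : Function.Injective ((C.iCycles i).hom.restrictScalars k) :=
      (ModuleCat.mono_iff_injective (C.iCycles i)).1 inferInstance
    obtain ⟨l, hl⟩ := ((C.iCycles i).hom.restrictScalars k).exists_leftInverse_of_injective
      (LinearMap.ker_eq_bot.2 hinj)
    exact ⟨((C.homologyπ i).hom.restrictScalars k).comp l, fun z => congrArg (C.homologyπ i).hom
      (DFunLike.congr_fun hl z)⟩
  choose L hL using hext
  let ψ : ∀ x : I, C.X x.1 ⟶ N := fun x => toN (((bH x.1).coord x.2).comp (L x.1))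
  have hd : ∀ (i j : ℤ) (y : C.X i), L j ((C.d i j).hom y) = 0 := by
    intro i j y
    by_cases hij : (ComplexShape.up ℤ).Rel i j
    · have e1 : (C.d i j).hom y = (C.iCycles j).hom ((C.toCycles i j).hom y) :=
        (congrArg (fun φ : C.X i ⟶ C.X j => φ.hom y) (C.toCycles_i i j)).symm
      rw [e1, hL]
      exact congrArg (fun φ : C.X i ⟶ C.homology j => φ.hom y) (C.toCycles_comp_homologyπ i j)
    · rw [C.shape i j hij]
      exact map_zero _
  have hN : ∀ a b : N, (∀ r, (a : R →ₗ[k] k) r = (b : R →ₗ[k] k) r) → a = b :=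
    fun a b h => LinearMap.ext h
  have hN' : ∀ a : N, (∀ l, (a : R →ₗ[k] k) (bR l) = 0) → a = 0 := fun a h => bR.ext h
  have hψd : ∀ (x : I) (i : ℤ), C.d i x.1 ≫ ψ x = 0 := fun x i => by
    ext y r
    change (bH x.1).coord x.2 (L x.1 (r • (C.d i x.1).hom y)) = 0
    rw [← map_smul (C.d i x.1).hom r y, hd, map_zero]
  -- the finitely many components which matter
  have hfin : ∀ (i : ℤ) (y : C.X i), ∃ s : Finset (Module.Free.ChooseBasisIndex k (C.homology i)),
      ∀ b, b ∉ s → (ψ ⟨i, b⟩).hom y = 0 := by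
    intro i y
    refine ⟨Finset.univ.biUnion fun l => ((bH i).repr (L i (bR l • y))).support, fun b hb => ?_⟩
    refine hN' _ fun l => ?_
    change (bH i).coord b (L i (bR l • y)) = 0
    refine Finsupp.notMem_support_iff.1 fun h' => hb ?_
    exact Finset.mem_biUnion.2 ⟨l, Finset.mem_univ l, h'⟩
  let inc : ∀ x : I, N ⟶ (∐ T).X x.1 := fun x =>
    (HomologicalComplex.singleObjXSelf (ComplexShape.up ℤ) x.1 N).inv ≫ (Sigma.ι T x).f x.1
  let comp : ∀ i, C.X i → Module.Free.ChooseBasisIndex k (C.homology i) → (∐ T).X i :=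
    fun i y b => (inc ⟨i, b⟩).hom ((ψ ⟨i, b⟩).hom y)
  have hsupp : ∀ (i : ℤ) (y : C.X i), (Function.support (comp i y)).Finite := fun i y => by
    obtain ⟨s, hs⟩ := hfin i y
    refine s.finite_toSet.subset fun b hb => ?_
    by_contra h'
    exact hb ((congrArg (inc ⟨i, b⟩).hom (hs b h')).trans (map_zero _))
  let F : ∀ i, C.X i ⟶ (∐ T).X i := fun i => ModuleCat.ofHom
    { toFun := fun y => ∑ᶠ b, comp i y b
      map_add' := fun y z => by
        rw [← finsum_add_distrib (hsupp i y) (hsupp i z)]
        exact finsum_congr fun b => (congrArg (inc ⟨i, b⟩).hom (map_add (ψ ⟨i, b⟩).hom y z)).trans (map_add _ _ _)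
      map_smul' := fun r y => by
        rw [RingHom.id_apply, smul_finsum' r (hsupp i y)]
        exact finsum_congr fun b => (congrArg (inc ⟨i, b⟩).hom (map_smul (ψ ⟨i, b⟩).hom r y)).trans (map_smul _ _ _) }
  have hT : ∀ i j, (∐ T).d i j = 0 := fun i j => by
    refine Cofan.IsColimit.hom_ext (isColimitCofanMkObjOfIsColimit
      (HomologicalComplex.eval (ModuleCat.{u} R) (ComplexShape.up ℤ) i) T (Sigma.ι T)
      (coproductIsCoproduct T)) _ _ fun x => ?_
    change (Sigma.ι T x).f i ≫ (∐ T).d i j = (Sigma.ι T x).f i ≫ 0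
    rw [HomologicalComplex.Hom.comm, comp_zero]
    simp [T]
  let f : C ⟶ ∐ T :=
    { f := F
      comm' := fun i j _ => by
        rw [hT, comp_zero]
        ext y
        refine ((finsum_congr fun b => ?_).trans finsum_zero).symm
        have := congrArg (fun φ : C.X i ⟶ N => φ.hom y) (hψd ⟨j, b⟩ i)
        exact (congrArg (inc ⟨j, b⟩).hom this).trans (map_zero _) }
  -- compactness
  have hL' := isLeftAdjoint_Qh (R := R)
  have := Groth.Agent.Lib.DerCat.HocolimQ.preservesColimitsOfShape_Q (A := ModuleCat.{u} R) I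
  have hQ := isColimitCofanMkObjOfIsColimit DerivedCategory.Q T _ (coproductIsCoproduct T)
  obtain ⟨s, hs⟩ := h I _ _ hQ (DerivedCategory.Q.map f)
  have hzero : ∀ x : I, x ∉ s → ∀ c : C.homology x.1, (bH x.1).coord x.2 c = 0 := by
    intro x hx c
    let p : (∐ T) ⟶ T x := cut (coproductIsCoproduct T) {x} ≫ pr (coproductIsCoproduct T) x
    have hp : DerivedCategory.Q.map p = cut hQ {x} ≫ pr hQ x := by
      refine Cofan.IsColimit.hom_ext hQ _ _ fun z => ?_
      rw [← Category.assoc, inj_cut]
      change DerivedCategory.Q.map (Sigma.ι T z) ≫ DerivedCategory.Q.map p = _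
      rw [← Functor.map_comp]
      change DerivedCategory.Q.map ((Cofan.mk _ (Sigma.ι T)).inj z ≫ cut _ {x} ≫ pr _ x) = _
      rw [← Category.assoc, inj_cut]
      split_ifs with hz
      · obtain rfl := Finset.mem_singleton.1 hz
        rw [inj_pr, inj_pr]
        exact DerivedCategory.Q.map_id _
      · rw [zero_comp, zero_comp]
        exact DerivedCategory.Q.map_zero _ _
    have hQ0 : DerivedCategory.Q.map (f ≫ p) = 0 := by
      rw [Functor.map_comp, hp, ← hs, Category.assoc]
      have : cut hQ s ≫ cut hQ {x} ≫ pr hQ x = 0 := by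
        refine Cofan.IsColimit.hom_ext hQ _ _ fun z => ?_
        rw [← Category.assoc, inj_cut, comp_zero]
        split_ifs with hz
        · have hzx : z ≠ x := fun e => hx (e ▸ hz)
          rw [← Category.assoc, inj_cut, if_neg (by simpa using hzx), zero_comp]
        · exact zero_comp
      rw [this, comp_zero]
    have hH : HomologicalComplex.homologyMap (f ≫ p) x.1 = 0 := by
      have := NatIso.naturality_1 (DerivedCategory.homologyFunctorFactors (ModuleCat.{u} R) x.1) (f ≫ p)
      change _ = (HomologicalComplex.homologyFunctor _ (ComplexShape.up ℤ) x.1).map (f ≫ p) at this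
      change (HomologicalComplex.homologyFunctor _ (ComplexShape.up ℤ) x.1).map (f ≫ p) = 0
      rw [← this, Functor.comp_map, hQ0, Functor.map_zero, zero_comp, comp_zero]
    obtain ⟨z, rfl⟩ := (ModuleCat.epi_iff_surjective (C.homologyπ x.1)).1 inferInstance c
    have hX : ((f ≫ p).f x.1).hom ((C.iCycles x.1).hom z) = 0 := by
      have e2 : C.iCycles x.1 ≫ (f ≫ p).f x.1 = 0 := by
        rw [← HomologicalComplex.cyclesMap_i]
        have e3 : HomologicalComplex.cyclesMap (f ≫ p) x.1 ≫ (T x).homologyπ x.1 = 0 := by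
          rw [← HomologicalComplex.homologyπ_naturality, hH, comp_zero]
        have : IsIso ((T x).homologyπ x.1) := (T x).isIso_homologyπ _ _ rfl (by simp [T])
        rw [(cancel_mono ((T x).homologyπ x.1)).1 (e3.trans zero_comp.symm), zero_comp]
      exact congrArg (fun φ : C.cycles x.1 ⟶ (T x).X x.1 => φ.hom z) e2
    have hFp : F x.1 ≫ p.f x.1 ≫ (HomologicalComplex.singleObjXSelf (ComplexShape.up ℤ) x.1 N).hom = ψ x := by
      obtain ⟨i, b⟩ := x
      refine ModuleCat.hom_ext (LinearMap.ext fun y => ?_)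
      change (p.f i ≫ (HomologicalComplex.singleObjXSelf (ComplexShape.up ℤ) i N).hom).hom
        (∑ᶠ b', comp i y b') = (ψ ⟨i, b⟩).hom y
      have hi : ∀ b', inc ⟨i, b'⟩ ≫ p.f i ≫ (HomologicalComplex.singleObjXSelf (ComplexShape.up ℤ) i N).hom =
          if b' = b then 𝟙 N else 0 := fun b' => by
        have : Sigma.ι T ⟨i, b'⟩ ≫ p = if h : b' = b then eqToHom (by rw [h]) else 0 := by
          change (Cofan.mk _ (Sigma.ι T)).inj ⟨i, b'⟩ ≫ cut _ _ ≫ pr _ _ = _
          rw [← Category.assoc, inj_cut]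
          by_cases hb : b' = b
          · subst hb
            rw [if_pos (Finset.mem_singleton_self _), inj_pr, dif_pos rfl]
            rfl
          · have hm : (⟨i, b'⟩ : I) ∉ ({⟨i, b⟩} : Finset I) := fun hm =>
              hb (eq_of_heq (Sigma.mk.inj (Finset.mem_singleton.1 hm)).2)
            rw [if_neg hm, zero_comp, dif_neg hb]
        change ((HomologicalComplex.singleObjXSelf (ComplexShape.up ℤ) i N).inv ≫ (Sigma.ι T ⟨i, b'⟩).f i) ≫ _ = _
        rw [Category.assoc, ← Category.assoc ((Sigma.ι T ⟨i, b'⟩).f i), ← HomologicalComplex.comp_f, this]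
        by_cases hb : b' = b
        · subst hb
          rw [dif_pos rfl, if_pos rfl, eqToHom_refl, HomologicalComplex.id_f, Category.id_comp, Iso.inv_hom_id]
        · rw [dif_neg hb, if_neg hb, HomologicalComplex.zero_f, zero_comp, comp_zero]
      rw [map_finsum _ (hsupp i y), finsum_eq_single _ b fun b' hb' => ?_]
      · exact congrArg (fun φ : N ⟶ N => φ.hom ((ψ ⟨i, b⟩).hom y)) ((hi b).trans (if_pos rfl))
      · exact congrArg (fun φ : N ⟶ N => φ.hom ((ψ ⟨i, b'⟩).hom y)) ((hi b').trans (if_neg hb'))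
    have h0 : (ψ x).hom ((C.iCycles x.1).hom z) = 0 := by
      rw [← hFp]
      exact (congrArg (HomologicalComplex.singleObjXSelf (ComplexShape.up ℤ) x.1 N).hom.hom hX).trans (map_zero _)
    have := DFunLike.congr_fun (h0 : (((ψ x).hom ((C.iCycles x.1).hom z)) : R →ₗ[k] k) = 0) 1
    change (bH x.1).coord x.2 (L x.1 ((1 : R) • (C.iCycles x.1).hom z)) = 0 at this
    rwa [one_smul, hL] at this
  refine ⟨fun i => ?_, (s.image Sigma.fst).finite_toSet.subset fun i hi => ?_⟩
  · have : Finite (Module.Free.ChooseBasisIndex k (C.homology i)) := by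
      refine @Finite.of_injective _ _ (s.finite_toSet.to_subtype) (fun b => (⟨⟨i, b⟩, ?_⟩ : ↥(s : Set I))) ?_
      · by_contra hb
        exact one_ne_zero ((by simp : (bH i).coord b (bH i b) = 1).symm.trans (hzero ⟨i, b⟩ hb (bH i b)))
      · intro b b' e
        exact eq_of_heq (Sigma.mk.inj (congrArg Subtype.val e)).2
    exact Module.Finite.of_basis (bH i)
  · haveI : Nontrivial (C.homology i) := hi
    obtain ⟨b⟩ := (bH i).index_nonempty
    refine Finset.mem_coe.2 (Finset.mem_image.2 ⟨⟨i, b⟩, ?_, rfl⟩)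
    by_contra hb
    exact one_ne_zero ((by simp : (bH i).coord b (bH i b) = 1).symm.trans (hzero ⟨i, b⟩ hb (bH i b)))

end Alg

end Groth.Agent.H83.Beil
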