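import Groth.Agent.H83.Beil.Fin
import Groth.Prelude.Def_W4stkfunctorsequivp2Beil
import Mathlib.RingTheory.MvPolynomial.Basic

/-! # The Beilinson algebra has finite global dimension -/

universe u

open CategoryTheory CategoryTheory.Limits MvPolynomial DEquiv

attribute [local instance] HasDerivedCategory.standard

namespace Groth.Agent.H83.Beil

variable (k : Type u) [Field k] (n : ℕ)

local notation "B" => beilinsonAlg k n

theorem finite_beilinsonAlg : Module.Finite k (beilinsonAlg k n) := by
  let V := restrictTotalDegree (Fin (n + 1)) k n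
  have hmem : ∀ (M : B) (i j : Fin (n + 1)), (M : Matrix _ _ (MvPolynomial (Fin (n + 1)) k)) i j ∈ V := by
    intro M i j
    rw [mem_restrictTotalDegree]
    refine ((M.2 i j).2.totalDegree_le).trans ?_
    have := j.is_lt
    omega
  let ι : B →ₗ[k] (Fin (n + 1) → Fin (n + 1) → V) :=
    { toFun := fun M i j => ⟨(M : Matrix _ _ (MvPolynomial (Fin (n + 1)) k)) i j, hmem M i j⟩
      map_add' := fun _ _ => rfl
      map_smul' := fun _ _ => rfl }
  exact Module.Finite.of_injective ι fun M N h => Subtype.ext (Matrix.ext fun i j =>
    congrArg Subtype.val (congrFun (congrFun h i) j))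

/-- The idempotents. -/
noncomputable def e (j : Fin (n + 1)) : B :=
  ⟨Matrix.single j j 1, fun a b => ⟨fun hba => Matrix.single_apply_of_ne _ _ _ _ _ (by
      rintro ⟨rfl, rfl⟩; exact lt_irrefl _ hba), by
    by_cases h : j = a ∧ j = b
    · obtain ⟨rfl, rfl⟩ := h
      rw [Matrix.single_apply_same, Nat.sub_self]
      exact isHomogeneous_one _ _
    · rw [Matrix.single_apply_of_ne _ _ _ _ _ h]
      exact isHomogeneous_zero _ _ _⟩⟩

lemma sum_e : ∑ j, e k n j = 1 := by
  apply Subtype.ext
  rw [AddSubmonoidClass.coe_finsetSum]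
  change (∑ j, Matrix.single j j (1 : MvPolynomial (Fin (n + 1)) k)) = 1
  ext a b
  rw [Matrix.sum_apply]
  by_cases h : a = b
  · subst h
    rw [Matrix.one_apply_eq, Finset.sum_eq_single a (fun c _ hc => Matrix.single_apply_of_ne _ _ _ _ _
      (fun hh => hc hh.1)) (by simp), Matrix.single_apply_same]
  · rw [Matrix.one_apply_ne h]
    exact congrArg _ (Finset.sum_eq_zero fun c _ => Matrix.single_apply_of_ne _ _ _ _ _
      (fun hh => h (hh.1.symm.trans hh.2)))

lemma e_mul_e (j : Fin (n + 1)) : e k n j * e k n j = e k n j :=
  Subtype.ext (by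
    change Matrix.single j j 1 * Matrix.single j j 1 = Matrix.single j j (1 : MvPolynomial (Fin (n + 1)) k)
    rw [Matrix.single_mul_single_same, one_mul])

lemma e_mul_mul_e_of_lt (r : B) {i j : Fin (n + 1)} (h : j < i) : e k n i * r * e k n j = 0 := by
  apply Subtype.ext
  change Matrix.single i i 1 * (r : Matrix _ _ (MvPolynomial (Fin (n + 1)) k)) * Matrix.single j j 1 = 0
  rw [Matrix.single_mul_mul_single, (r.2 i j).1 h]
  simp

lemma e_mul_mul_e (r : B) (j : Fin (n + 1)) :
    ∃ c : k, e k n j * r * e k n j = algebraMap k B c * e k n j := by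
  let c := MvPolynomial.coeff 0 ((r : Matrix _ _ (MvPolynomial (Fin (n + 1)) k)) j j)
  refine ⟨c, ?_⟩
  rw [← Algebra.smul_def]
  apply Subtype.ext
  change Matrix.single j j 1 * (r : Matrix _ _ (MvPolynomial (Fin (n + 1)) k)) * Matrix.single j j 1 =
    c • Matrix.single j j 1
  rw [Matrix.single_mul_mul_single, Matrix.smul_single]
  congr 1
  have h := (r.2 j j).2
  rw [Nat.sub_self] at h
  have := totalDegree_eq_zero_iff_eq_C.1 (Nat.le_zero.1 h.totalDegree_le)
  rw [one_mul, mul_one, MvPolynomial.smul_eq_C_mul, mul_one]
  exact this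


section Gen

variable {R : Type u} [Ring R] [Algebra k R] [Module.Finite k R] (e : Fin (n + 1) → R)
  (hsum : ∑ j, e j = 1) (he : ∀ j, e j * e j = e j)
  (hlt' : ∀ (r : R) {i j : Fin (n + 1)}, j < i → e i * r * e j = 0)
  (hjj : ∀ (r : R) (j : Fin (n + 1)), ∃ c : k, e j * r * e j = algebraMap k R c * e j)

/-- The modules supported on the vertices `< j`. -/
def Supp (j : ℕ) (M : ModuleCat.{u} R) : Prop :=
  ∀ i : Fin (n + 1), j ≤ (i : ℕ) → ∀ x : M, e i • x = 0

include hsum he hlt' hjj in
theorem cpt_supp : ∀ (j : ℕ), j ≤ n + 1 → ∀ M : ModuleCat.{u} R, Supp n e j M →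
    Module.Finite k (RestrictScalars k R M) → Cpt.{u} (S0.obj M) := by
  intro j
  induction j with
  | zero =>
    intro _ M hM _
    refine Cpt.of_isZero (S0.map_isZero (@ModuleCat.isZero_of_subsingleton _ _ M
      (subsingleton_of_forall_eq 0 fun x => ?_)))
    rw [← one_smul R x, ← hsum, Finset.sum_smul]
    exact Finset.sum_eq_zero fun i _ => hM i (Nat.zero_le _) x
  | succ j ih =>
    intro hj M hM hfin
    let mk : ∀ M : ModuleCat.{u} R, Module k M := fun M => Module.compHom M (algebraMap k R)
    have tow : ∀ M : ModuleCat.{u} R, IsScalarTower k R M := fun M =>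
      ⟨fun a r m => by rw [Algebra.smul_def, mul_smul]; rfl⟩
    have : Module.Finite k M := hfin
    let jj : Fin (n + 1) := ⟨j, hj⟩
    let E := e jj
    let V : Submodule k M := LinearMap.range
      ({ toFun := fun x => E • x
         map_add' := fun x y => smul_add _ _ _
         map_smul' := fun a x => by
          change E • algebraMap k R a • x = algebraMap k R a • E • x
          rw [smul_smul, smul_smul, Algebra.commutes] } : M →ₗ[k] M)
    let bV := Module.finBasis k V
    let d := Module.finrank k V
    have hV : ∀ b, E • ((bV b : V) : M) = (bV b : M) := fun b => by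
      obtain ⟨x, hx⟩ := (bV b).2
      rw [← hx]
      change E • E • x = E • x
      rw [smul_smul, he]
    let P : Submodule R (Fin d → R) :=
      { carrier := {p | ∀ b, p b * E = p b}
        add_mem' := fun {p q} hp hq b => by
          change (p b + q b) * E = p b + q b
          rw [add_mul, hp, hq]
        zero_mem' := fun b => zero_mul E
        smul_mem' := fun r p hp b => by
          change r * p b * E = r * p b
          rw [mul_assoc, hp] }
    let toP : (Fin d → R) →ₗ[R] P :=
      { toFun := fun p => ⟨fun b => p b * E, fun b => by rw [mul_assoc, he]⟩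
        map_add' := fun p q => Subtype.ext (funext fun b => add_mul _ _ _)
        map_smul' := fun r p => Subtype.ext (funext fun b => mul_assoc r (p b) E) }
    have hP : Cpt.{u} (S0.obj (ModuleCat.of R P)) :=
      (cpt_single (ModuleCat.of R (Fin d → R))).retract
        (Retract.map (⟨ModuleCat.ofHom P.subtype, ModuleCat.ofHom toP,
          ModuleCat.hom_ext (LinearMap.ext fun p => Subtype.ext (funext fun b => p.2 b))⟩ :
          Retract (ModuleCat.of R P) (ModuleCat.of R (Fin d → R))) S0)
    let φ : P →ₗ[R] M :=
      { toFun := fun p => ∑ b, p.1 b • (bV b : M)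
        map_add' := fun p q => by
          rw [← Finset.sum_add_distrib]
          exact Finset.sum_congr rfl fun b _ => add_smul _ _ _
        map_smul' := fun r p => by
          rw [RingHom.id_apply, Finset.smul_sum]
          exact Finset.sum_congr rfl fun b _ => mul_smul _ _ _ }
    have hfd : Module.Finite k (Fin d → R) := inferInstance
    -- kernel
    have hK : Cpt.{u} (S0.obj (ModuleCat.of R φ.ker)) := by
      refine ih (by omega) _ (fun i hi x => Subtype.ext (Subtype.ext (funext fun b => ?_))) ?_
      · change e i * (x : P).1 b = 0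
        rw [← (x : P).2 b]
        rcases lt_or_eq_of_le hi with hlt | heq
        · rw [← mul_assoc]
          exact hlt' _ hlt
        · obtain rfl : i = jj := Fin.ext heq.symm
          choose c hc using fun b => hjj ((x : P).1 b) jj
          have h0 : ∑ b, c b • bV b = 0 := by
            apply Subtype.ext
            rw [AddSubmonoidClass.coe_finsetSum]
            have h1 : E • (∑ b, (x : P).1 b • (bV b : M)) = 0 := by
              rw [show (∑ b, (x : P).1 b • (bV b : M)) = φ x.1 from rfl, LinearMap.mem_ker.1 x.2, smul_zero]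
            rw [Finset.smul_sum] at h1
            refine (Finset.sum_congr rfl fun b _ => ?_).trans h1
            change algebraMap k R (c b) • (bV b : M) = _
            conv_rhs => rw [← (x : P).2 b, smul_smul, ← mul_assoc, hc, mul_smul, hV]
          rw [← mul_assoc, hc, Fintype.linearIndependent_iff.1 bV.linearIndependent c h0 b, map_zero,
            zero_mul]
      · have : IsScalarTower k R (Fin d → R) := inferInstance
        let inj : RestrictScalars k R φ.ker →ₗ[k] (Fin d → R) :=
          { toFun := fun x => ((id x : φ.ker) : P).1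
            map_add' := fun _ _ => rfl
            map_smul' := fun a x => funext fun b => by
              change algebraMap k R a * ((id x : φ.ker) : P).1 b = a • ((id x : φ.ker) : P).1 b
              rw [Algebra.smul_def] }
        exact Module.Finite.of_injective inj fun x y h => Subtype.ext (Subtype.ext h)
    -- cokernel
    have hC : Cpt.{u} (S0.obj (ModuleCat.of R (M ⧸ φ.range))) := by
      refine ih (by omega) _ (fun i hi x => ?_) ?_
      · obtain ⟨x, rfl⟩ := Submodule.Quotient.mk_surjective _ x
        rcases lt_or_eq_of_le hi with hlt | heq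
        · rw [← Submodule.Quotient.mk_smul, hM i (Nat.succ_le_of_lt hlt) x, Submodule.Quotient.mk_zero]
        · obtain rfl : i = jj := Fin.ext heq.symm
          rw [← Submodule.Quotient.mk_smul, Submodule.Quotient.mk_eq_zero]
          let v : V := ⟨E • x, x, rfl⟩
          refine ⟨⟨fun b => algebraMap k R (bV.repr v b) * E, fun b => by rw [mul_assoc, he]⟩, ?_⟩
          change ∑ b, (algebraMap k R (bV.repr v b) * E) • (bV b : M) = (v : M)
          conv_rhs => rw [← bV.sum_repr v, AddSubmonoidClass.coe_finsetSum]
          exact Finset.sum_congr rfl fun b _ => by rw [mul_smul, hV]; rfl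
      · let q : M →ₗ[k] RestrictScalars k R (M ⧸ φ.range) :=
          { toFun := fun x => (Submodule.Quotient.mk x : M ⧸ φ.range)
            map_add' := fun _ _ => rfl
            map_smul' := fun _ _ => rfl }
        exact Module.Finite.of_surjective q (Submodule.Quotient.mk_surjective φ.range)
    -- assembling
    let S : ShortComplex (ModuleCat.{u} R) := ShortComplex.mk (X₁ := ModuleCat.of R φ.ker)
      (X₂ := ModuleCat.of R P) (X₃ := ModuleCat.of R φ.range)
      (ModuleCat.ofHom φ.ker.subtype) (ModuleCat.ofHom φ.rangeRestrict)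
      (ModuleCat.hom_ext (LinearMap.ext fun x => Subtype.ext x.2))
    have hS : S.ShortExact :=
      { exact := (ShortComplex.moduleCat_exact_iff S).2 fun p hp =>
          ⟨⟨p, LinearMap.mem_ker.2 (congrArg Subtype.val hp)⟩, rfl⟩
        mono_f := (ModuleCat.mono_iff_injective _).2 Subtype.val_injective
        epi_g := (ModuleCat.epi_iff_surjective _).2 φ.surjective_rangeRestrict }
    let S' : ShortComplex (ModuleCat.{u} R) := ShortComplex.mk
      (X₁ := ModuleCat.of R φ.range) (X₂ := M) (X₃ := ModuleCat.of R (M ⧸ φ.range)) (ModuleCat.ofHom φ.range.subtype) (ModuleCat.ofHom φ.range.mkQ)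
      (ModuleCat.hom_ext (LinearMap.ext fun x => (Submodule.Quotient.mk_eq_zero _).2 x.2))
    have hS' : S'.ShortExact :=
      { exact := (ShortComplex.moduleCat_exact_iff S').2 fun p hp =>
          ⟨⟨p, (Submodule.Quotient.mk_eq_zero _).1 hp⟩, rfl⟩
        mono_f := (ModuleCat.mono_iff_injective _).2 Subtype.val_injective
        epi_g := (ModuleCat.epi_iff_surjective _).2 (Submodule.mkQ_surjective _) }
    exact cpt_mid (S := S') hS' (cpt_quot hS hK hP) hC

end Gen

theorem cpt_of_finite (M : ModuleCat.{u} B) (h : Module.Finite k (RestrictScalars k B M)) :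
    Cpt.{u} (S0.obj M) := by
  have := finite_beilinsonAlg k n
  exact cpt_supp k n (R := B) (e k n) (sum_e k n) (e_mul_e k n) (fun r _ _ h => e_mul_mul_e_of_lt k n r h)
    (fun r j => e_mul_mul_e k n r j) (n + 1) le_rfl M (fun i hi => absurd i.is_lt (not_lt.2 hi)) h

end Groth.Agent.H83.Beil
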